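import Cfsg.Agent.H153.Dl.RFi24
import Cfsg.Agent.H153.Dl.Cls

/-!
# `Fi24` : numbers of fixed points of words, table E1 (helper153)

Generated data and kernel checks: `(w, f₁, f₂)` with `f₁`, `f₂` the numbers of fixed points of `w` and `w²`.
-/

set_option autoImplicit false
set_option maxRecDepth 100000
set_option Elab.async false

namespace Cfsg.Agent.H153.Dl.K24

open Cfsg Cfsg.Agent.H153.Dl Cfsg.Agent.H153.Dl.PR
open Cfsg.Spor.Fi24 (Gen)

theorem E1_0 : chk R24 19 ([.h, .i, .d, .e], 36, 36) = true := by decide +kernel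

theorem E1_1 : chk R24 19 ([.g, .b, .d, .c], 64, 3512) = true := by decide +kernel

theorem E1_2 : chk R24 19 ([.e, .j, .d, .i, .c, .b], 12, 36) = true := by decide +kernel

theorem E1_3 : chk R24 19 ([.d, .h, .j, .k, .l, .g], 162, 162) = true := by decide +kernel

theorem E1_4 : chk R24 19 ([.c, .f, .g, .e, .a, .b], 120, 504) = true := by decide +kernel

theorem E1_5 : chk R24 19 ([.c, .b, .f, .j, .e, .a, .d, .g], 6, 6) = true := by decide +kernel

theorem E1_6 : chk R24 19 ([.f, .d, .b, .j, .l, .h, .c, .e], 2, 18) = true := by decide +kernel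

theorem E1_7 : chk R24 19 ([.g, .d, .c, .b, .h, .k, .e, .a], 4, 38) = true := by decide +kernel

theorem E1_8 : chk R24 19 ([.i, .d, .e, .b, .d, .h, .d, .c], 45, 45) = true := by decide +kernel

theorem E1_9 : chk R24 19 ([.k, .l, .e, .c, .g, .a, .i, .f], 8, 504) = true := by decide +kernel

theorem E1_10 : chk R24 19 ([.c, .a, .b, .d, .h, .l, .g, .f, .j, .e], 1, 1) = true := by decide +kernel

theorem E1_11 : chk R24 19 ([.i, .e, .a, .g, .d, .f, .b, .k, .j, .h], 0, 8) = true := by decide +kernel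

/-- The table. -/
def E1 : List (List Gen × ℕ × ℕ) := [([.h, .i, .d, .e], 36, 36),
  ([.g, .b, .d, .c], 64, 3512),
  ([.e, .j, .d, .i, .c, .b], 12, 36),
  ([.d, .h, .j, .k, .l, .g], 162, 162),
  ([.c, .f, .g, .e, .a, .b], 120, 504),
  ([.c, .b, .f, .j, .e, .a, .d, .g], 6, 6),
  ([.f, .d, .b, .j, .l, .h, .c, .e], 2, 18),
  ([.g, .d, .c, .b, .h, .k, .e, .a], 4, 38),
  ([.i, .d, .e, .b, .d, .h, .d, .c], 45, 45),
  ([.k, .l, .e, .c, .g, .a, .i, .f], 8, 504),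
  ([.c, .a, .b, .d, .h, .l, .g, .f, .j, .e], 1, 1),
  ([.i, .e, .a, .g, .d, .f, .b, .k, .j, .h], 0, 8)]

theorem E1_ok : ∀ q ∈ E1, chk R24 19 q = true :=
  List.forall_mem_cons.2 ⟨E1_0, (List.forall_mem_cons.2 ⟨E1_1, (List.forall_mem_cons.2 ⟨E1_2, (List.forall_mem_cons.2 ⟨E1_3, (List.forall_mem_cons.2 ⟨E1_4, (List.forall_mem_cons.2 ⟨E1_5, (List.forall_mem_cons.2 ⟨E1_6, (List.forall_mem_cons.2 ⟨E1_7, (List.forall_mem_cons.2 ⟨E1_8, (List.forall_mem_cons.2 ⟨E1_9, (List.forall_mem_cons.2 ⟨E1_10, (List.forall_mem_cons.2 ⟨E1_11, (fun _ h => absurd h (by simp))⟩)⟩)⟩)⟩)⟩)⟩)⟩)⟩)⟩)⟩)⟩)⟩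

end Cfsg.Agent.H153.Dl.K24
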