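import Cfsg.Agent.H153.Dl.RFi24
import Cfsg.Agent.H153.Dl.Cls

/-!
# `Fi24` : numbers of fixed points of words, table E2 (helper153)

Generated data and kernel checks: `(w, f₁, f₂)` with `f₁`, `f₂` the numbers of fixed points of `w` and `w²`.
-/

set_option autoImplicit false
set_option maxRecDepth 100000
set_option Elab.async false

namespace Cfsg.Agent.H153.Dl.K24

open Cfsg Cfsg.Agent.H153.Dl Cfsg.Agent.H153.Dl.PR
open Cfsg.Spor.Fi24 (Gen)

theorem E2_0 : chk R24 19 ([.h, .i, .j, .g], 378, 378) = true := by decide +kernel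

theorem E2_1 : chk R24 19 ([.h, .l, .c, .d, .k, .b], 15, 15) = true := by decide +kernel

theorem E2_2 : chk R24 19 ([.d, .b, .e, .c, .i, .h], 21, 45) = true := by decide +kernel

theorem E2_3 : chk R24 19 ([.g, .b, .j, .d, .e, .f], 18, 378) = true := by decide +kernel

theorem E2_4 : chk R24 19 ([.l, .c, .k, .h, .b, .i], 1485, 1485) = true := by decide +kernel

theorem E2_5 : chk R24 19 ([.f, .h, .a, .j, .l, .k, .d, .e], 4, 12) = true := by decide +kernel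

theorem E2_6 : chk R24 19 ([.b, .h, .d, .f, .k, .c, .e, .l], 6, 18) = true := by decide +kernel

theorem E2_7 : chk R24 19 ([.c, .i, .d, .g, .j, .h, .e, .a], 6, 36) = true := by decide +kernel

theorem E2_8 : chk R24 19 ([.l, .b, .e, .i, .d, .h, .k, .c], 36, 72) = true := by decide +kernel

theorem E2_9 : chk R24 19 ([.j, .c, .b, .i, .h, .l, .k, .e], 29, 1485) = true := by decide +kernel

theorem E2_10 : chk R24 19 ([.f, .j, .a, .i, .g, .d, .c, .k, .l, .h], 0, 4) = true := by decide +kernel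

theorem E2_11 : chk R24 19 ([.g, .d, .l, .b, .a, .i, .h, .k, .j, .c], 9, 9) = true := by decide +kernel

/-- The table. -/
def E2 : List (List Gen × ℕ × ℕ) := [([.h, .i, .j, .g], 378, 378),
  ([.h, .l, .c, .d, .k, .b], 15, 15),
  ([.d, .b, .e, .c, .i, .h], 21, 45),
  ([.g, .b, .j, .d, .e, .f], 18, 378),
  ([.l, .c, .k, .h, .b, .i], 1485, 1485),
  ([.f, .h, .a, .j, .l, .k, .d, .e], 4, 12),
  ([.b, .h, .d, .f, .k, .c, .e, .l], 6, 18),
  ([.c, .i, .d, .g, .j, .h, .e, .a], 6, 36),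
  ([.l, .b, .e, .i, .d, .h, .k, .c], 36, 72),
  ([.j, .c, .b, .i, .h, .l, .k, .e], 29, 1485),
  ([.f, .j, .a, .i, .g, .d, .c, .k, .l, .h], 0, 4),
  ([.g, .d, .l, .b, .a, .i, .h, .k, .j, .c], 9, 9)]

theorem E2_ok : ∀ q ∈ E2, chk R24 19 q = true :=
  List.forall_mem_cons.2 ⟨E2_0, (List.forall_mem_cons.2 ⟨E2_1, (List.forall_mem_cons.2 ⟨E2_2, (List.forall_mem_cons.2 ⟨E2_3, (List.forall_mem_cons.2 ⟨E2_4, (List.forall_mem_cons.2 ⟨E2_5, (List.forall_mem_cons.2 ⟨E2_6, (List.forall_mem_cons.2 ⟨E2_7, (List.forall_mem_cons.2 ⟨E2_8, (List.forall_mem_cons.2 ⟨E2_9, (List.forall_mem_cons.2 ⟨E2_10, (List.forall_mem_cons.2 ⟨E2_11, (fun _ h => absurd h (by simp))⟩)⟩)⟩)⟩)⟩)⟩)⟩)⟩)⟩)⟩)⟩)⟩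

end Cfsg.Agent.H153.Dl.K24
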