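import Cfsg.Agent.H153.Dl.RFi24
import Cfsg.Agent.H153.Dl.Cls

/-!
# `Fi24` : numbers of fixed points of words, table E3 (helper153)

Generated data and kernel checks: `(w, f₁, f₂)` with `f₁`, `f₂` the numbers of fixed points of `w` and `w²`.
-/

set_option autoImplicit false
set_option maxRecDepth 100000
set_option Elab.async false

namespace Cfsg.Agent.H153.Dl.K24

open Cfsg Cfsg.Agent.H153.Dl Cfsg.Agent.H153.Dl.PR
open Cfsg.Spor.Fi24 (Gen)

theorem E3_0 : chk R24 19 ([.c, .h, .d, .e], 72, 3240) = true := by decide +kernel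

theorem E3_1 : chk R24 19 ([.b, .h, .e, .c, .f, .d], 18, 18) = true := by decide +kernel

theorem E3_2 : chk R24 19 ([.c, .j, .i, .e, .h, .d], 12, 120) = true := by decide +kernel

theorem E3_3 : chk R24 19 ([.b, .l, .k, .f, .e, .i], 38, 378) = true := by decide +kernel

theorem E3_4 : chk R24 19 ([.b, .j, .h, .g, .a, .k, .c, .i], 3, 3) = true := by decide +kernel

theorem E3_5 : chk R24 19 ([.e, .f, .b, .d, .c, .a, .h, .g], 6, 12) = true := by decide +kernel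

theorem E3_6 : chk R24 19 ([.e, .i, .h, .l, .g, .f, .b, .d], 5, 21) = true := by decide +kernel

theorem E3_7 : chk R24 19 ([.c, .b, .e, .i, .j, .l, .h, .d], 5, 45) = true := by decide +kernel

theorem E3_8 : chk R24 19 ([.k, .f, .e, .j, .c, .i, .b, .l], 2, 162) = true := by decide +kernel

theorem E3_9 : chk R24 19 ([.c, .l, .b, .k, .i, .a, .e, .h], 45, 1485) = true := by decide +kernel

theorem E3_10 : chk R24 19 ([.k, .h, .j, .a, .d, .f, .l, .i, .b, .e], 1, 3) = true := by decide +kernel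

theorem E3_11 : chk R24 19 ([.g, .i, .l, .k, .b, .j, .d, .f, .c, .h], 1, 29) = true := by decide +kernel

/-- The table. -/
def E3 : List (List Gen × ℕ × ℕ) := [([.c, .h, .d, .e], 72, 3240),
  ([.b, .h, .e, .c, .f, .d], 18, 18),
  ([.c, .j, .i, .e, .h, .d], 12, 120),
  ([.b, .l, .k, .f, .e, .i], 38, 378),
  ([.b, .j, .h, .g, .a, .k, .c, .i], 3, 3),
  ([.e, .f, .b, .d, .c, .a, .h, .g], 6, 12),
  ([.e, .i, .h, .l, .g, .f, .b, .d], 5, 21),
  ([.c, .b, .e, .i, .j, .l, .h, .d], 5, 45),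
  ([.k, .f, .e, .j, .c, .i, .b, .l], 2, 162),
  ([.c, .l, .b, .k, .i, .a, .e, .h], 45, 1485),
  ([.k, .h, .j, .a, .d, .f, .l, .i, .b, .e], 1, 3),
  ([.g, .i, .l, .k, .b, .j, .d, .f, .c, .h], 1, 29)]

theorem E3_ok : ∀ q ∈ E3, chk R24 19 q = true :=
  List.forall_mem_cons.2 ⟨E3_0, (List.forall_mem_cons.2 ⟨E3_1, (List.forall_mem_cons.2 ⟨E3_2, (List.forall_mem_cons.2 ⟨E3_3, (List.forall_mem_cons.2 ⟨E3_4, (List.forall_mem_cons.2 ⟨E3_5, (List.forall_mem_cons.2 ⟨E3_6, (List.forall_mem_cons.2 ⟨E3_7, (List.forall_mem_cons.2 ⟨E3_8, (List.forall_mem_cons.2 ⟨E3_9, (List.forall_mem_cons.2 ⟨E3_10, (List.forall_mem_cons.2 ⟨E3_11, (fun _ h => absurd h (by simp))⟩)⟩)⟩)⟩)⟩)⟩)⟩)⟩)⟩)⟩)⟩)⟩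

end Cfsg.Agent.H153.Dl.K24
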