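import Cfsg.Agent.H153.Dl.RFi24
import Cfsg.Agent.H153.Dl.Cls

/-!
# `Fi24` : numbers of fixed points of words, table O0 (helper153)

Generated data and kernel checks: `(w, f₁, f₂)` with `f₁`, `f₂` the numbers of fixed points of `w` and `w²`.
-/

set_option autoImplicit false
set_option maxRecDepth 100000
set_option Elab.async false

namespace Cfsg.Agent.H153.Dl.K24

open Cfsg Cfsg.Agent.H153.Dl Cfsg.Agent.H153.Dl.PR
open Cfsg.Spor.Fi24 (Gen)

theorem O0_0 : chk R24 19 ([.f, .g, .c], 352, 3240) = true := by decide +kernel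

theorem O0_1 : chk R24 19 ([.h, .l, .c, .d, .k], 36, 128) = true := by decide +kernel

theorem O0_2 : chk R24 19 ([.e, .j, .d, .i, .c], 72, 3512) = true := by decide +kernel

theorem O0_3 : chk R24 19 ([.j, .b, .e, .l, .f, .k, .a], 7, 15) = true := by decide +kernel

theorem O0_4 : chk R24 19 ([.e, .j, .d, .i, .c, .b, .h], 13, 45) = true := by decide +kernel

theorem O0_5 : chk R24 19 ([.k, .d, .e, .j, .f, .g, .a], 12, 162) = true := by decide +kernel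

theorem O0_6 : chk R24 19 ([.k, .l, .a, .h, .c, .b, .i], 165, 1485) = true := by decide +kernel

theorem O0_7 : chk R24 19 ([.g, .k, .b, .h, .j, .l, .c, .e, .f], 1, 3) = true := by decide +kernel

theorem O0_8 : chk R24 19 ([.k, .d, .i, .c, .e, .a, .b, .g, .j], 2, 6) = true := by decide +kernel

theorem O0_9 : chk R24 19 ([.a, .j, .l, .i, .k, .c, .f, .d, .b], 3, 21) = true := by decide +kernel

theorem O0_10 : chk R24 19 ([.l, .b, .e, .i, .d, .h, .k, .c, .g], 4, 72) = true := by decide +kernel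

theorem O0_11 : chk R24 19 ([.h, .l, .b, .g, .f, .c, .k, .d, .a, .i, .e], 1, 5) = true := by decide +kernel

/-- The table. -/
def O0 : List (List Gen × ℕ × ℕ) := [([.f, .g, .c], 352, 3240),
  ([.h, .l, .c, .d, .k], 36, 128),
  ([.e, .j, .d, .i, .c], 72, 3512),
  ([.j, .b, .e, .l, .f, .k, .a], 7, 15),
  ([.e, .j, .d, .i, .c, .b, .h], 13, 45),
  ([.k, .d, .e, .j, .f, .g, .a], 12, 162),
  ([.k, .l, .a, .h, .c, .b, .i], 165, 1485),
  ([.g, .k, .b, .h, .j, .l, .c, .e, .f], 1, 3),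
  ([.k, .d, .i, .c, .e, .a, .b, .g, .j], 2, 6),
  ([.a, .j, .l, .i, .k, .c, .f, .d, .b], 3, 21),
  ([.l, .b, .e, .i, .d, .h, .k, .c, .g], 4, 72),
  ([.h, .l, .b, .g, .f, .c, .k, .d, .a, .i, .e], 1, 5)]

theorem O0_ok : ∀ q ∈ O0, chk R24 19 q = true :=
  List.forall_mem_cons.2 ⟨O0_0, (List.forall_mem_cons.2 ⟨O0_1, (List.forall_mem_cons.2 ⟨O0_2, (List.forall_mem_cons.2 ⟨O0_3, (List.forall_mem_cons.2 ⟨O0_4, (List.forall_mem_cons.2 ⟨O0_5, (List.forall_mem_cons.2 ⟨O0_6, (List.forall_mem_cons.2 ⟨O0_7, (List.forall_mem_cons.2 ⟨O0_8, (List.forall_mem_cons.2 ⟨O0_9, (List.forall_mem_cons.2 ⟨O0_10, (List.forall_mem_cons.2 ⟨O0_11, (fun _ h => absurd h (by simp))⟩)⟩)⟩)⟩)⟩)⟩)⟩)⟩)⟩)⟩)⟩)⟩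

end Cfsg.Agent.H153.Dl.K24
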