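import Cfsg.Agent.H153.Dl.RFi24
import Cfsg.Agent.H153.Dl.Cls

/-!
# `Fi24` : numbers of fixed points of words, table O1 (helper153)

Generated data and kernel checks: `(w, f₁, f₂)` with `f₁`, `f₂` the numbers of fixed points of `w` and `w²`.
-/

set_option autoImplicit false
set_option maxRecDepth 100000
set_option Elab.async false

namespace Cfsg.Agent.H153.Dl.K24

open Cfsg Cfsg.Agent.H153.Dl Cfsg.Agent.H153.Dl.PR
open Cfsg.Spor.Fi24 (Gen)

theorem O1_0 : chk R24 19 ([.k, .a, .l], 360, 3512) = true := by decide +kernel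

theorem O1_1 : chk R24 19 ([.c, .a, .b, .d, .h], 48, 378) = true := by decide +kernel

theorem O1_2 : chk R24 19 ([.e, .f, .b, .d, .c, .a, .h], 4, 6) = true := by decide +kernel

theorem O1_3 : chk R24 19 ([.d, .g, .e, .i, .f, .c, .b], 11, 21) = true := by decide +kernel

theorem O1_4 : chk R24 19 ([.b, .f, .h, .d, .e, .i, .c], 19, 45) = true := by decide +kernel

theorem O1_5 : chk R24 19 ([.b, .k, .c, .i, .h, .e, .f], 28, 162) = true := by decide +kernel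

theorem O1_6 : chk R24 19 ([.b, .h, .g, .c, .k, .l, .i], 325, 1485) = true := by decide +kernel

theorem O1_7 : chk R24 19 ([.c, .i, .d, .g, .j, .h, .e, .a, .k], 0, 6) = true := by decide +kernel

theorem O1_8 : chk R24 19 ([.k, .e, .c, .i, .d, .g, .l, .f, .h], 1, 9) = true := by decide +kernel

theorem O1_9 : chk R24 19 ([.f, .c, .i, .l, .a, .h, .d, .e, .k], 9, 29) = true := by decide +kernel

theorem O1_10 : chk R24 19 ([.k, .g, .j, .i, .f, .h, .d, .b, .a], 0, 504) = true := by decide +kernel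

theorem O1_11 : chk R24 19 ([.h, .d, .g, .c, .h, .d, .a, .j, .e, .l, .k], 0, 128) = true := by decide +kernel

/-- The table. -/
def O1 : List (List Gen × ℕ × ℕ) := [([.k, .a, .l], 360, 3512),
  ([.c, .a, .b, .d, .h], 48, 378),
  ([.e, .f, .b, .d, .c, .a, .h], 4, 6),
  ([.d, .g, .e, .i, .f, .c, .b], 11, 21),
  ([.b, .f, .h, .d, .e, .i, .c], 19, 45),
  ([.b, .k, .c, .i, .h, .e, .f], 28, 162),
  ([.b, .h, .g, .c, .k, .l, .i], 325, 1485),
  ([.c, .i, .d, .g, .j, .h, .e, .a, .k], 0, 6),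
  ([.k, .e, .c, .i, .d, .g, .l, .f, .h], 1, 9),
  ([.f, .c, .i, .l, .a, .h, .d, .e, .k], 9, 29),
  ([.k, .g, .j, .i, .f, .h, .d, .b, .a], 0, 504),
  ([.h, .d, .g, .c, .h, .d, .a, .j, .e, .l, .k], 0, 128)]

theorem O1_ok : ∀ q ∈ O1, chk R24 19 q = true :=
  List.forall_mem_cons.2 ⟨O1_0, (List.forall_mem_cons.2 ⟨O1_1, (List.forall_mem_cons.2 ⟨O1_2, (List.forall_mem_cons.2 ⟨O1_3, (List.forall_mem_cons.2 ⟨O1_4, (List.forall_mem_cons.2 ⟨O1_5, (List.forall_mem_cons.2 ⟨O1_6, (List.forall_mem_cons.2 ⟨O1_7, (List.forall_mem_cons.2 ⟨O1_8, (List.forall_mem_cons.2 ⟨O1_9, (List.forall_mem_cons.2 ⟨O1_10, (List.forall_mem_cons.2 ⟨O1_11, (fun _ h => absurd h (by simp))⟩)⟩)⟩)⟩)⟩)⟩)⟩)⟩)⟩)⟩)⟩)⟩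

end Cfsg.Agent.H153.Dl.K24
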