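import Cfsg.Agent.H153.Dl.RFi24
import Cfsg.Agent.H153.Dl.Cls

/-!
# `Fi24` : numbers of fixed points of words, table O2 (helper153)

Generated data and kernel checks: `(w, f₁, f₂)` with `f₁`, `f₂` the numbers of fixed points of `w` and `w²`.
-/

set_option autoImplicit false
set_option maxRecDepth 100000
set_option Elab.async false

namespace Cfsg.Agent.H153.Dl.K24

open Cfsg Cfsg.Agent.H153.Dl Cfsg.Agent.H153.Dl.PR
open Cfsg.Spor.Fi24 (Gen)

theorem O2_0 : chk R24 19 ([.g, .b, .d, .c, .e], 22, 36) = true := by decide +kernel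

theorem O2_1 : chk R24 19 ([.i, .j, .b, .h, .g], 136, 378) = true := by decide +kernel

theorem O2_2 : chk R24 19 ([.c, .h, .k, .d, .b, .e, .f], 4, 18) = true := by decide +kernel

theorem O2_3 : chk R24 19 ([.b, .e, .i, .g, .k, .a, .c], 6, 36) = true := by decide +kernel

theorem O2_4 : chk R24 19 ([.g, .b, .j, .d, .e, .f, .c], 20, 120) = true := by decide +kernel

theorem O2_5 : chk R24 19 ([.b, .l, .k, .f, .e, .i, .j], 12, 378) = true := by decide +kernel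

theorem O2_6 : chk R24 19 ([.a, .c, .h, .d, .f, .k, .g, .e, .j], 0, 2) = true := by decide +kernel

theorem O2_7 : chk R24 19 ([.c, .k, .g, .e, .l, .j, .b, .a, .f], 3, 3) = true := by decide +kernel

theorem O2_8 : chk R24 19 ([.k, .h, .j, .a, .d, .f, .l, .i, .b], 2, 12) = true := by decide +kernel

theorem O2_9 : chk R24 19 ([.c, .a, .b, .d, .h, .l, .g, .f, .j], 6, 38) = true := by decide +kernel

theorem O2_10 : chk R24 19 ([.c, .l, .b, .k, .i, .a, .e, .h, .g], 21, 1485) = true := by decide +kernel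

/-- The table. -/
def O2 : List (List Gen × ℕ × ℕ) := [([.g, .b, .d, .c, .e], 22, 36),
  ([.i, .j, .b, .h, .g], 136, 378),
  ([.c, .h, .k, .d, .b, .e, .f], 4, 18),
  ([.b, .e, .i, .g, .k, .a, .c], 6, 36),
  ([.g, .b, .j, .d, .e, .f, .c], 20, 120),
  ([.b, .l, .k, .f, .e, .i, .j], 12, 378),
  ([.a, .c, .h, .d, .f, .k, .g, .e, .j], 0, 2),
  ([.c, .k, .g, .e, .l, .j, .b, .a, .f], 3, 3),
  ([.k, .h, .j, .a, .d, .f, .l, .i, .b], 2, 12),
  ([.c, .a, .b, .d, .h, .l, .g, .f, .j], 6, 38),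
  ([.c, .l, .b, .k, .i, .a, .e, .h, .g], 21, 1485)]

theorem O2_ok : ∀ q ∈ O2, chk R24 19 q = true :=
  List.forall_mem_cons.2 ⟨O2_0, (List.forall_mem_cons.2 ⟨O2_1, (List.forall_mem_cons.2 ⟨O2_2, (List.forall_mem_cons.2 ⟨O2_3, (List.forall_mem_cons.2 ⟨O2_4, (List.forall_mem_cons.2 ⟨O2_5, (List.forall_mem_cons.2 ⟨O2_6, (List.forall_mem_cons.2 ⟨O2_7, (List.forall_mem_cons.2 ⟨O2_8, (List.forall_mem_cons.2 ⟨O2_9, (List.forall_mem_cons.2 ⟨O2_10, (fun _ h => absurd h (by simp))⟩)⟩)⟩)⟩)⟩)⟩)⟩)⟩)⟩)⟩)⟩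

end Cfsg.Agent.H153.Dl.K24
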