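import Cfsg.Agent.H153.Dl.RFi24
import Cfsg.Agent.H153.Dl.Cls

/-!
# `Fi24` : numbers of fixed points of words, table O3 (helper153)

Generated data and kernel checks: `(w, f₁, f₂)` with `f₁`, `f₂` the numbers of fixed points of `w` and `w²`.
-/

set_option autoImplicit false
set_option maxRecDepth 100000
set_option Elab.async false

namespace Cfsg.Agent.H153.Dl.K24

open Cfsg Cfsg.Agent.H153.Dl Cfsg.Agent.H153.Dl.PR
open Cfsg.Spor.Fi24 (Gen)

theorem O3_0 : chk R24 19 ([.e, .d, .i, .c, .h], 12, 120) = true := by decide +kernel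

theorem O3_1 : chk R24 19 ([.i, .g, .l, .b, .c], 48, 3240) = true := by decide +kernel

theorem O3_2 : chk R24 19 ([.h, .d, .l, .e, .k, .b, .a], 10, 12) = true := by decide +kernel

theorem O3_3 : chk R24 19 ([.j, .l, .d, .g, .c, .a, .k], 18, 38) = true := by decide +kernel

theorem O3_4 : chk R24 19 ([.f, .h, .a, .j, .l, .k, .d], 12, 128) = true := by decide +kernel

theorem O3_5 : chk R24 19 ([.b, .k, .a, .g, .e, .h, .f], 40, 504) = true := by decide +kernel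

theorem O3_6 : chk R24 19 ([.e, .f, .b, .d, .c, .a, .h, .g, .k], 1, 1) = true := by decide +kernel

theorem O3_7 : chk R24 19 ([.f, .d, .e, .j, .b, .g, .a, .h, .k], 3, 5) = true := by decide +kernel

theorem O3_8 : chk R24 19 ([.j, .f, .l, .i, .c, .h, .g, .a, .e], 3, 15) = true := by decide +kernel

theorem O3_9 : chk R24 19 ([.i, .g, .a, .l, .e, .d, .f, .h, .c], 3, 45) = true := by decide +kernel

theorem O3_10 : chk R24 19 ([.c, .g, .b, .f, .h, .a, .l, .i, .e, .k, .j], 0, 0) = true := by decide +kernel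

/-- The table. -/
def O3 : List (List Gen × ℕ × ℕ) := [([.e, .d, .i, .c, .h], 12, 120),
  ([.i, .g, .l, .b, .c], 48, 3240),
  ([.h, .d, .l, .e, .k, .b, .a], 10, 12),
  ([.j, .l, .d, .g, .c, .a, .k], 18, 38),
  ([.f, .h, .a, .j, .l, .k, .d], 12, 128),
  ([.b, .k, .a, .g, .e, .h, .f], 40, 504),
  ([.e, .f, .b, .d, .c, .a, .h, .g, .k], 1, 1),
  ([.f, .d, .e, .j, .b, .g, .a, .h, .k], 3, 5),
  ([.j, .f, .l, .i, .c, .h, .g, .a, .e], 3, 15),
  ([.i, .g, .a, .l, .e, .d, .f, .h, .c], 3, 45),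
  ([.c, .g, .b, .f, .h, .a, .l, .i, .e, .k, .j], 0, 0)]

theorem O3_ok : ∀ q ∈ O3, chk R24 19 q = true :=
  List.forall_mem_cons.2 ⟨O3_0, (List.forall_mem_cons.2 ⟨O3_1, (List.forall_mem_cons.2 ⟨O3_2, (List.forall_mem_cons.2 ⟨O3_3, (List.forall_mem_cons.2 ⟨O3_4, (List.forall_mem_cons.2 ⟨O3_5, (List.forall_mem_cons.2 ⟨O3_6, (List.forall_mem_cons.2 ⟨O3_7, (List.forall_mem_cons.2 ⟨O3_8, (List.forall_mem_cons.2 ⟨O3_9, (List.forall_mem_cons.2 ⟨O3_10, (fun _ h => absurd h (by simp))⟩)⟩)⟩)⟩)⟩)⟩)⟩)⟩)⟩)⟩)⟩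

end Cfsg.Agent.H153.Dl.K24
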