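import Cfsg.Agent.H153.Dl.RFi24
import Cfsg.Agent.H153.Dl.Cls

/-!
# `Fi24` : numbers of fixed points of words, table E0 (helper153)

Generated data and kernel checks: `(w, f₁, f₂)` with `f₁`, `f₂` the numbers of fixed points of `w` and `w²`.
-/

set_option autoImplicit false
set_option maxRecDepth 100000
set_option Elab.async false

namespace Cfsg.Agent.H153.Dl.K24

open Cfsg Cfsg.Agent.H153.Dl Cfsg.Agent.H153.Dl.PR
open Cfsg.Spor.Fi24 (Gen)

theorem E0_0 : chk R24 19 ([.f, .g], 3240, 3240) = true := by decide +kernel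

theorem E0_1 : chk R24 19 ([.f, .g, .c, .k], 128, 3240) = true := by decide +kernel

theorem E0_2 : chk R24 19 ([.h, .b, .c, .i, .a, .d], 21, 21) = true := by decide +kernel

theorem E0_3 : chk R24 19 ([.e, .l, .k, .j, .a, .f], 16, 128) = true := by decide +kernel

theorem E0_4 : chk R24 19 ([.c, .e, .f, .i, .g, .d], 126, 378) = true := by decide +kernel

theorem E0_5 : chk R24 19 ([.d, .h, .f, .a, .j, .c, .b, .e], 2, 6) = true := by decide +kernel

theorem E0_6 : chk R24 19 ([.j, .b, .e, .l, .f, .k, .a, .h], 3, 15) = true := by decide +kernel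

theorem E0_7 : chk R24 19 ([.a, .i, .j, .e, .f, .l, .c, .d], 4, 36) = true := by decide +kernel

theorem E0_8 : chk R24 19 ([.k, .d, .b, .j, .g, .f, .h, .a], 12, 72) = true := by decide +kernel

theorem E0_9 : chk R24 19 ([.c, .a, .b, .d, .h, .l, .g, .f], 18, 162) = true := by decide +kernel

theorem E0_10 : chk R24 19 ([.c, .l, .h, .g, .f, .b, .e, .i, .k, .j], 0, 0) = true := by decide +kernel

theorem E0_11 : chk R24 19 ([.j, .g, .f, .a, .i, .d, .b, .l, .c, .k], 1, 5) = true := by decide +kernel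

/-- The table. -/
def E0 : List (List Gen × ℕ × ℕ) := [([.f, .g], 3240, 3240),
  ([.f, .g, .c, .k], 128, 3240),
  ([.h, .b, .c, .i, .a, .d], 21, 21),
  ([.e, .l, .k, .j, .a, .f], 16, 128),
  ([.c, .e, .f, .i, .g, .d], 126, 378),
  ([.d, .h, .f, .a, .j, .c, .b, .e], 2, 6),
  ([.j, .b, .e, .l, .f, .k, .a, .h], 3, 15),
  ([.a, .i, .j, .e, .f, .l, .c, .d], 4, 36),
  ([.k, .d, .b, .j, .g, .f, .h, .a], 12, 72),
  ([.c, .a, .b, .d, .h, .l, .g, .f], 18, 162),
  ([.c, .l, .h, .g, .f, .b, .e, .i, .k, .j], 0, 0),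
  ([.j, .g, .f, .a, .i, .d, .b, .l, .c, .k], 1, 5)]

theorem E0_ok : ∀ q ∈ E0, chk R24 19 q = true :=
  List.forall_mem_cons.2 ⟨E0_0, (List.forall_mem_cons.2 ⟨E0_1, (List.forall_mem_cons.2 ⟨E0_2, (List.forall_mem_cons.2 ⟨E0_3, (List.forall_mem_cons.2 ⟨E0_4, (List.forall_mem_cons.2 ⟨E0_5, (List.forall_mem_cons.2 ⟨E0_6, (List.forall_mem_cons.2 ⟨E0_7, (List.forall_mem_cons.2 ⟨E0_8, (List.forall_mem_cons.2 ⟨E0_9, (List.forall_mem_cons.2 ⟨E0_10, (List.forall_mem_cons.2 ⟨E0_11, (fun _ h => absurd h (by simp))⟩)⟩)⟩)⟩)⟩)⟩)⟩)⟩)⟩)⟩)⟩)⟩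

end Cfsg.Agent.H153.Dl.K24
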